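import Mathlib

/-!
# Evaluations of polynomials at points with prescribed non-vanishing
-/

universe u

open scoped TensorProduct Polynomial

namespace Groth.Agent.PurTrans14

variable {k Ω : Type u} [Field k] [Field Ω] [Algebra k Ω] {ι : Type u}

/-- A nonzero polynomial over `Ω` takes a nonzero value at some tuple from `(Polynomial k)`. -/
theorem exists_aeval_ne_zero (P : MvPolynomial ι Ω) (hP : P ≠ 0) :
    ∃ s : ι → (Polynomial k), MvPolynomial.aeval (fun i => (s i).map (algebraMap k Ω)) P ≠ (0 : (Polynomial Ω)) := by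
  by_contra hcon
  push_neg at hcon
  apply hP
  have hC : Function.Injective (algebraMap Ω (Polynomial Ω)) := Polynomial.C_injective
  apply MvPolynomial.map_injective _ hC
  rw [map_zero]
  refine MvPolynomial.funext_set (fun _ => Set.range (Polynomial.map (algebraMap k Ω)))
    (fun _ => Set.infinite_range_of_injective (Polynomial.map_injective _ (algebraMap k Ω).injective)) ?_
  intro x hx
  choose s hs using fun i => hx i (Set.mem_univ i)
  rw [map_zero, MvPolynomial.eval_map, ← MvPolynomial.aeval_def, show x = fun i => (s i).map (algebraMap k Ω) from funext fun i => (hs i).symm]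
  exact hcon s

/-- Some irreducible polynomial over `k` is coprime to a given nonzero polynomial over `Ω`. -/
theorem exists_irreducible_isCoprime (C : (Polynomial Ω)) (hC : C ≠ 0) :
    ∃ μ : (Polynomial k), Irreducible μ ∧ IsCoprime (μ.map (algebraMap k Ω)) C := by
  classical
  let K' := AlgebraicClosure Ω
  let R : Finset K' := (C.map (algebraMap Ω K')).roots.toFinset
  let M : Finset (Polynomial k) := R.image (minpoly k)
  obtain ⟨μ, hμ, hμm, hμM⟩ : ∃ μ : (Polynomial k), Irreducible μ ∧ μ.Monic ∧ μ ∉ M := by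
    let Kb := AlgebraicClosure k
    obtain ⟨θ, hθ⟩ := Set.Infinite.nonempty (Set.Infinite.diff
      (Set.infinite_univ (α := Kb))
      ((M.finite_toSet.biUnion fun p _ => (p.aroots Kb).toFinset.finite_toSet)))
    have hi : IsIntegral k θ := Algebra.IsIntegral.isIntegral θ
    refine ⟨minpoly k θ, minpoly.irreducible hi, minpoly.monic hi, fun hM => hθ.2 ?_⟩
    refine Set.mem_biUnion hM ?_
    simp [minpoly.ne_zero hi, minpoly.aeval]
  refine ⟨μ, hμ, ?_⟩
  by_contra hn
  obtain ⟨r, h1, h2⟩ : ∃ r : K', Polynomial.aeval r (μ.map (algebraMap k Ω)) = 0 ∧ Polynomial.aeval r C = 0 := by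
    by_contra hno
    push_neg at hno
    apply hn
    refine (Polynomial.isCoprime_iff_aeval_ne_zero_of_isAlgClosed Ω K' _ _).2 fun r => ?_
    by_cases h : Polynomial.aeval r (μ.map (algebraMap k Ω)) = 0
    · exact Or.inr (hno r h)
    · exact Or.inl h
  apply hμM
  rw [Polynomial.aeval_map_algebraMap] at h1
  refine Finset.mem_image.2 ⟨r, ?_, (minpoly.eq_of_irreducible_of_monic hμ h1 hμm).symm⟩
  rw [Multiset.mem_toFinset, Polynomial.mem_roots (Polynomial.map_ne_zero hC)]
  rwa [Polynomial.IsRoot, Polynomial.eval_map, ← Polynomial.aeval_def]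

/-- An element of `Ω ⊗ A` that is nonzero at the generic point avoids every prime over some closed point. -/
theorem exists_closedPoint (A : Subalgebra k (FractionRing (MvPolynomial ι k))) (hA : A.FG)
    (f : Ω ⊗[k] A) (ν : Ω ⊗[k] A →ₐ[k] FractionRing (MvPolynomial ι Ω))
    (hνl : ∀ ω : Ω, ν (ω ⊗ₜ 1) = algebraMap Ω _ ω)
    (j : FractionRing (MvPolynomial ι k) →ₐ[k] FractionRing (MvPolynomial ι Ω))
    (hj : ∀ i, j (algebraMap (MvPolynomial ι k) _ (MvPolynomial.X i)) =
      algebraMap (MvPolynomial ι Ω) _ (MvPolynomial.X i))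
    (hνr : ∀ a : A, ν (1 ⊗ₜ a) = j a) (hf : ν f ≠ 0) :
    ∃ (k' : Type u) (_ : Field k') (_ : Algebra k k') (a : A →ₐ[k] k'), Module.Finite k k' ∧
      IsUnit (Algebra.TensorProduct.map (AlgHom.id k Ω) a f) := by
  classical
  let Kf := FractionRing (MvPolynomial ι k)
  obtain ⟨s, hs⟩ := hA
  obtain ⟨⟨h, hh⟩, hden⟩ := IsLocalization.exist_integer_multiples (nonZeroDivisors (MvPolynomial ι k)) s
    (id : Kf → Kf)
  have hh0 : h ≠ 0 := nonZeroDivisors.ne_zero hh
  let L := Localization.Away h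
  let iL : L →ₐ[k] Kf := IsLocalization.liftAlgHom (A := k) (M := Submonoid.powers h)
    (f := IsScalarTower.toAlgHom k (MvPolynomial ι k) Kf)
    (fun y => IsUnit.mk0 _ (by
      obtain ⟨n, hn⟩ := y.2
      show algebraMap (MvPolynomial ι k) Kf y ≠ 0
      rw [Ne, FaithfulSMul.algebraMap_eq_zero_iff, ← hn]
      exact pow_ne_zero n hh0))
  have iL_map : ∀ p, iL (algebraMap (MvPolynomial ι k) L p) = algebraMap _ Kf p := fun p =>
    IsLocalization.lift_eq _ p
  have iL_inj : Function.Injective iL := by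
    refine (IsLocalization.lift_injective_iff _).2 fun x y => ⟨fun e => ?_, fun e => ?_⟩
    · exact congrArg iL e |> fun e' => by simpa [iL_map] using e'
    · exact congrArg _ (IsFractionRing.injective (MvPolynomial ι k) Kf e)
  have hAL : A ≤ iL.range := by
    rw [← hs, Algebra.adjoin_le_iff]
    intro x hx
    obtain ⟨p, hp⟩ := hden x hx
    refine ⟨IsLocalization.mk' L p (⟨h, 1, pow_one h⟩ : Submonoid.powers h), ?_⟩
    have e := congrArg iL (IsLocalization.mk'_spec L p (⟨h, 1, pow_one h⟩ : Submonoid.powers h))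
    rw [map_mul, iL_map, iL_map] at e
    have hh' : algebraMap (MvPolynomial ι k) Kf h ≠ 0 := by
      rwa [Ne, FaithfulSMul.algebraMap_eq_zero_iff]
    apply mul_right_cancel₀ hh'
    refine e.trans ?_
    erw [hp]
    rw [id, Algebra.smul_def, mul_comm]
  let incl : A →ₐ[k] L := (AlgEquiv.ofInjective iL iL_inj).symm.toAlgHom.comp (Subalgebra.inclusion hAL)
  have hincl : ∀ a : A, iL (incl a) = a := fun a =>
    congrArg Subtype.val ((AlgEquiv.ofInjective iL iL_inj).apply_symm_apply (Subalgebra.inclusion hAL a))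
  let Kr := FractionRing (MvPolynomial ι Ω)
  let νL : Ω ⊗[k] L →ₐ[k] Kr :=
    Algebra.TensorProduct.lift (IsScalarTower.toAlgHom k Ω Kr) (j.comp iL) (fun _ _ => Commute.all _ _)
  let fL := Algebra.TensorProduct.map (AlgHom.id k Ω) incl f
  have hfL : νL fL ≠ 0 := by
    have : νL.comp (Algebra.TensorProduct.map (AlgHom.id k Ω) incl) = ν := by
      apply Algebra.TensorProduct.ext
      · ext ω; simp [νL, hνl]; rfl
      · ext a; simp [νL, hνr, hincl]
    show νL.comp (Algebra.TensorProduct.map (AlgHom.id k Ω) incl) f ≠ 0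
    rwa [this]
  let ε : MvPolynomial ι Ω →ₐ[Ω] Ω ⊗[k] L :=
    MvPolynomial.aeval fun i => (1 : Ω) ⊗ₜ algebraMap (MvPolynomial ι k) L (MvPolynomial.X i)
  let mp : MvPolynomial ι k →+* MvPolynomial ι Ω := MvPolynomial.map (algebraMap k Ω)
  have εC : ∀ ω : Ω, ε (MvPolynomial.C ω) = ω ⊗ₜ[k] (1 : L) := fun ω => (MvPolynomial.aeval_C _ ω).trans rfl
  have εmp : ∀ p, ε (mp p) = (1 : Ω) ⊗ₜ algebraMap (MvPolynomial ι k) L p := fun p => by
    refine RingHom.congr_fun (f := ε.toRingHom.comp mp)
      (g := (Algebra.TensorProduct.includeRight (A := Ω)).toRingHom.comp (algebraMap _ L)) ?_ p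
    apply MvPolynomial.ringHom_ext
    · intro r
      show ε (MvPolynomial.map _ (MvPolynomial.C r)) = (1 : Ω) ⊗ₜ[k] algebraMap _ L (MvPolynomial.C r)
      rw [MvPolynomial.map_C, εC, ← MvPolynomial.algebraMap_eq, ← IsScalarTower.algebraMap_apply,
        Algebra.algebraMap_eq_smul_one, Algebra.algebraMap_eq_smul_one, TensorProduct.smul_tmul]
    · intro i; simp [ε, mp]
  have key : ∀ z : Ω ⊗[k] L, ∃ (n : ℕ) (P : MvPolynomial ι Ω), z * ε (mp h) ^ n = ε P := fun z => by
    induction z using TensorProduct.induction_on with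
    | zero => exact ⟨0, 0, by simp⟩
    | tmul ω l =>
      obtain ⟨⟨p, _, n, rfl⟩, hp⟩ := IsLocalization.surj (Submonoid.powers h) l
      refine ⟨n, MvPolynomial.C ω * mp p, ?_⟩
      rw [map_mul, εmp, εmp, Algebra.TensorProduct.tmul_pow, one_pow, ← map_pow,
        Algebra.TensorProduct.tmul_mul_tmul, mul_one, hp]
      rw [εC, Algebra.TensorProduct.tmul_mul_tmul, mul_one, one_mul]
    | add z z' hz hz' =>
      obtain ⟨n, P, hP⟩ := hz
      obtain ⟨n', P', hP'⟩ := hz'
      exact ⟨n + n', P * mp h ^ n' + P' * mp h ^ n, by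
        simp only [map_add, map_mul, map_pow, ← hP, ← hP', pow_add]; ring⟩
  obtain ⟨n, P, hP⟩ := key fL
  have hmh : mp h ≠ 0 := fun e => hh0 (MvPolynomial.map_injective _ (algebraMap k Ω).injective (e.trans (map_zero mp).symm))
  have hP0 : P ≠ 0 := by
    rintro rfl
    rw [map_zero] at hP
    have e := congrArg νL hP
    rw [map_mul, map_pow, map_zero, mul_eq_zero] at e
    rcases e with e | e
    · exact hfL e
    · have hcomp : ∀ Q, νL (ε Q) = algebraMap (MvPolynomial ι Ω) Kr Q := fun Q => by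
        refine RingHom.congr_fun (f := νL.toRingHom.comp ε.toRingHom) ?_ Q
        apply MvPolynomial.ringHom_ext
        · intro r
          show νL (ε (MvPolynomial.C r)) = algebraMap _ Kr (MvPolynomial.C r)
          rw [εC, ← MvPolynomial.algebraMap_eq, ← IsScalarTower.algebraMap_apply]
          simp [νL]
        · intro i; simp [ε, νL, iL_map]; exact hj i
      rw [hcomp] at e
      exact hmh (IsFractionRing.injective _ Kr ((eq_zero_of_pow_eq_zero e).trans (map_zero _).symm))
  obtain ⟨t, ht⟩ := exists_aeval_ne_zero (k := k) _ (mul_ne_zero hP0 hmh)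
  obtain ⟨μ, hμ, hcop⟩ : ∃ μ : Polynomial k, Irreducible μ ∧ IsCoprime (μ.map (algebraMap k Ω))
      (MvPolynomial.aeval (fun i => (t i).map (algebraMap k Ω)) (P * mp h)) := exists_irreducible_isCoprime _ ht
  haveI : Fact (Irreducible μ) := ⟨hμ⟩
  let k' := AdjoinRoot μ
  haveI : Module.Finite k k' := (AdjoinRoot.powerBasis hμ.ne_zero).finite
  let ρ : Ω ⊗[k] k' := 1 ⊗ₜ AdjoinRoot.root μ
  let evX : (Polynomial Ω) →ₐ[Ω] Ω ⊗[k] k' := Polynomial.aeval ρ
  let evT : MvPolynomial ι k →ₐ[k] k' := MvPolynomial.aeval fun i => AdjoinRoot.mk μ (t i)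
  have evX_map : ∀ p : (Polynomial k), evX (p.map (algebraMap k Ω)) = (1 : Ω) ⊗ₜ AdjoinRoot.mk μ p := fun p => by
    show Polynomial.aeval ρ _ = _
    rw [Polynomial.aeval_map_algebraMap, show ρ = Algebra.TensorProduct.includeRight (AdjoinRoot.root μ) from rfl,
      Polynomial.aeval_algHom_apply, AdjoinRoot.aeval_eq]
    rfl
  let φ : MvPolynomial ι Ω →ₐ[Ω] Ω ⊗[k] k' :=
    evX.comp (MvPolynomial.aeval fun i => (t i).map (algebraMap k Ω))
  have hφmp : ∀ p, φ (mp p) = (1 : Ω) ⊗ₜ evT p := fun p => by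
    refine RingHom.congr_fun (f := φ.toRingHom.comp mp)
      (g := (Algebra.TensorProduct.includeRight (A := Ω)).toRingHom.comp evT.toRingHom) ?_ p
    apply MvPolynomial.ringHom_ext
    · intro r
      show φ (MvPolynomial.map _ (MvPolynomial.C r)) = (1 : Ω) ⊗ₜ[k] evT (MvPolynomial.C r)
      rw [MvPolynomial.map_C, ← MvPolynomial.algebraMap_eq, ← MvPolynomial.algebraMap_eq, AlgHom.commutes,
        AlgHom.commutes, Algebra.TensorProduct.algebraMap_apply, Algebra.algebraMap_self, RingHom.id_apply,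
        Algebra.algebraMap_eq_smul_one, Algebra.algebraMap_eq_smul_one, TensorProduct.smul_tmul]
    · intro i; simp [φ, mp, evT, evX_map]
  have hu : IsUnit (φ (P * mp h)) := by
    obtain ⟨x, y, hxy⟩ := hcop
    have e := congrArg evX hxy
    rw [map_add, map_mul, map_mul, evX_map, AdjoinRoot.mk_self, TensorProduct.tmul_zero, mul_zero,
      zero_add, map_one] at e
    exact IsUnit.of_mul_eq_one _ ((mul_comm _ _).trans e)
  rw [map_mul, IsUnit.mul_iff] at hu
  have hh' : IsUnit (evT h) := IsUnit.mk0 _ fun e => by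
    have := hu.2
    rw [hφmp, e, TensorProduct.tmul_zero] at this
    exact not_isUnit_zero this
  let evL : L →ₐ[k] k' := IsLocalization.liftAlgHom (A := k) (M := Submonoid.powers h) (f := evT)
    (fun y => by obtain ⟨m, hm⟩ := y.2; simp only [← hm, map_pow]; exact hh'.pow m)
  refine ⟨k', inferInstance, inferInstance, evL.comp incl, inferInstance, ?_⟩
  let Φ := Algebra.TensorProduct.map (AlgHom.id Ω Ω) evL
  have hΦ : ∀ Q, Φ (ε Q) = φ Q := fun Q => by
    refine AlgHom.congr_fun (φ₁ := Φ.comp ε) (φ₂ := φ) ?_ Q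
    apply MvPolynomial.algHom_ext
    intro i
    simp [Φ, ε, φ, evX_map, evL, evT, IsLocalization.lift_eq]
  have e : Algebra.TensorProduct.map (AlgHom.id k Ω) (evL.comp incl) f = Φ fL := by
    refine AlgHom.congr_fun (φ₂ := (Φ.restrictScalars k).comp (Algebra.TensorProduct.map (AlgHom.id k Ω) incl)) ?_ f
    apply Algebra.TensorProduct.ext <;> ext <;> simp [Φ]
  rw [e]
  have e2 := congrArg Φ hP
  rw [map_mul, map_pow, hΦ, hΦ] at e2
  exact (IsUnit.mul_iff.1 (e2 ▸ hu.1)).1

end Groth.Agent.PurTrans14
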