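import Groth.Agent.Lib.GrpScheme14.Basic
import Groth.Agent.Lib.PurTrans14.Algebra
import Groth.Agent.S10411

/-!
# Descent of representability along purely transcendental extensions
-/

universe u

set_option backward.isDefEq.respectTransparency.types false
set_option backward.isDefEq.respectTransparency false
set_option linter.unusedVariables false

open CategoryTheory CategoryTheory.Limits AlgebraicGeometry Opposite
open scoped TensorProduct

namespace Groth.Agent.PurTrans14

open AlgSp Groth.Agent.AlgSpace Groth.Agent.AlgSpDecent Groth.Agent.FieldSpread14 Groth.Agent.LimSys14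
  Groth.Agent.GrpScheme14

noncomputable section

set_option maxHeartbeats 1000000

variable {k : Type u} [Field k]

/-- An affine open neighbourhood of a point appears at a finite stage. -/
theorem exists_stage_affine (X : AlgSp.Space (Spec (CommRingCat.of k))) (hqc : IsQuasiCompactSp X.obj)
    (hqs : IsQuasiSeparatedSp X.obj) {K : Type u} [Field K] [Algebra k K]
    {H : Over (Spec (CommRingCat.of k))} [IsAffine H.left]
    (i : (yon _).obj H ⟶ X.obj ⨯ (yon _).obj (spec k K))
    (hi : RepWith @IsOpenImmersion i) (z : Points (X.obj ⨯ (yon _).obj (spec k K)))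
    (hz : z ∈ Set.range (Points.map i)) :
    ∃ (A : Subalgebra k K) (_ : A.FG) (HA : Over (Spec (CommRingCat.of k)))
      (w : (yon _).obj HA ⟶ X.obj ⨯ (yon _).obj (spec k A)), IsAffine HA.left ∧
        RepWith @IsOpenImmersion w ∧
        Points.map (prod.map (𝟙 X.obj) ((yon _).map (specHom A.val))) z ∈ Set.range (Points.map w) := by
  have : IsFiltered (Idx k K) := isFiltered_of_directed_le_nonempty _
  obtain ⟨hD, hDa, hDc, hDs, ⟨hc⟩⟩ := bigSys_facts X hqc hqs K
  let c := bigCone X.obj K
  have := compactSpace_yon_of_affine H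
  obtain ⟨i₁⟩ := IsCofiltered.nonempty (C := (Idx k K)ᵒᵖ)
  obtain ⟨i₀, -, Ui, ji, r, hji, hUi, sqU⟩ := exists_open_descends hDa c hc hD hDc hDs i hi
    ((isQuasiCompactSp_iff (IsAlgSpace.yon_obj _)).2 inferInstance) i₁
  have hUsp : IsAlgSpace Ui := isAlgSpace_of_representable hji.1 (hD i₀)
  have : Mono ji := mono_of_repWith _
    (repWith_mono (fun _ _ u (_ : IsOpenImmersion u) => (inferInstance : Mono u)) hji)
  have hUs : IsQuasiSeparatedSp Ui :=
    isQuasiSeparatedSp_of_mor (GrpScheme14.isQuasiSeparatedMor_of_mono ji) (hDs i₀)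
  let t : Over.forget i₀ ⋙ bigSys X.obj K ⟶ (Functor.const (Over i₀)).obj ((bigSys X.obj K).obj i₀) :=
    overSp i₀
  let o : Over i₀ := Over.mk (𝟙 i₀)
  have haff : ∀ j : Over o, IsAffineMor (pullback.snd (t.app j.left) ji) := fun j =>
    isAffineMor_of_isPullback (IsPullback.of_hasPullback (t.app j.left) ji) (hDa _ _ j.left.hom)
  have halg : ∀ j : Over o, IsAlgSpace (pullback (t.app j.left) ji) := fun j =>
    isAlgSpace_pullback (hD i₀) (hD j.left.left) hUsp (IsPullback.of_hasPullback (t.app j.left) ji)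
  obtain ⟨l, -, HA, hHA, ⟨eA⟩⟩ := exists_isAffine_of_limit (D := bcSys t ji o) halg
    (fun _ _ φ => isAffineMor_bcMap (fun (j j' : Over i₀) (ψ : j ⟶ j') => hDa j.left j'.left ψ.left) t ji o φ)
    (fun j => isQuasiSeparatedSp_of_mor (isQuasiSeparatedMor_of_isAffineMor (halg j) hUsp (haff j)) hUs)
    (bcCone (restrictCone c i₀) t ji o (c.π.app i₀) (fun j => c.w j.hom))
    (bcIsLimit (restrictCone c i₀) t ji o (c.π.app i₀) (fun j => c.w j.hom) (restrictIsLimit c hc i₀))
    (fun j => isQuasiCompactSp_of_mor (halg j) hUsp (isQuasiCompactMor_of_isAffineMor (halg j) hUsp (haff j)) hUi)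
    H sqU.isoPullback (Over.mk (𝟙 o))
  have sql := IsPullback.of_hasPullback (t.app l.left) ji
  refine ⟨l.left.left.unop.1, l.left.left.unop.2, HA, eA.hom ≫ pullback.fst (t.app l.left) ji, hHA,
    (repWith_respectsIso_left eA.hom).2 (repWith_of_isPullback sql.flip hji), ?_⟩
  obtain ⟨y, rfl⟩ := hz
  obtain ⟨x, hx, -⟩ := exists_point_lift sql (Points.map (c.π.app l.left.left) (Points.map i y))
    (Points.map r y) (by
      rw [← Points.map_comp, ← Points.map_comp, ← Points.map_comp, ← sqU.w]
      exact congrArg (fun g => Points.map g y)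
        ((Category.assoc _ _ _).trans (congrArg (i ≫ ·) (c.w l.left.hom))))
  obtain ⟨x', rfl⟩ := (bijective_map_iso eA.hom).2 x
  exact ⟨x', (Points.map_comp _ _ _).trans hx⟩

theorem specHom_comp {A B C : Type u} [CommRing A] [CommRing B] [CommRing C] [Algebra k A] [Algebra k B]
    [Algebra k C] (f : A →ₐ[k] B) (g : B →ₐ[k] C) : specHom (g.comp f) = specHom g ≫ specHom f :=
  Over.OverMorphism.ext (by
    show Spec.map _ = Spec.map _ ≫ Spec.map _
    rw [← Spec.map_comp]
    rfl)

/-- Over a purely transcendental extension representability descends: the local statement. -/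
theorem exists_nhd (X : AlgSp.Space (Spec (CommRingCat.of k))) (hqc : IsQuasiCompactSp X.obj)
    (hqs : IsQuasiSeparatedSp X.obj) (ι : Type u)
    (h : (X.obj ⨯ (yon _).obj (spec k (FractionRing (MvPolynomial ι k)))).obj.IsRepresentable)
    (x : Points X.obj) :
    ∃ (Y' : AlgSp.Space (Spec (CommRingCat.of k))) (j : Y' ⟶ X), RepWith @IsOpenImmersion j.hom ∧
      Y'.obj.obj.IsRepresentable ∧ x ∈ Set.range (Points.map j.hom) := by
  induction x using Points.ind with | h p =>
  let K := FractionRing (MvPolynomial ι k)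
  let Ω := p.K
  let φ₁ : k →+* Ω := (Spec.preimage p.str).hom
  let : Algebra k Ω := φ₁.toAlgebra
  let eΩ : spec k Ω ⟶ p.pt := Over.homMk (𝟙 _) (by
    show 𝟙 _ ≫ p.str = Spec.map _
    rw [Category.id_comp]
    exact (Spec.map_preimage p.str).symm)
  let g := (yon _).map eΩ ≫ p.toHom
  have hg : Points.ofPt g (IsLocalRing.closedPoint Ω) = Points.mk p := by
    rw [ofPt_map_comp]; exact Points.ofPt_toHom p _
  let Kr := FractionRing (MvPolynomial ι Ω)
  let mp : MvPolynomial ι k →ₐ[k] MvPolynomial ι Ω := MvPolynomial.mapAlgHom (Algebra.ofId k Ω)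
  have hmp : Function.Injective mp := MvPolynomial.map_injective _ (Algebra.ofId k Ω).toRingHom.injective
  let j : K →ₐ[k] Kr := IsFractionRing.liftAlgHom (g := (IsScalarTower.toAlgHom k (MvPolynomial ι Ω) Kr).comp mp)
    ((IsFractionRing.injective (MvPolynomial ι Ω) Kr).comp hmp)
  have hjX : ∀ i, j (algebraMap (MvPolynomial ι k) K (MvPolynomial.X i)) =
      algebraMap (MvPolynomial ι Ω) Kr (MvPolynomial.X i) := fun i => by
    have hinj := (IsFractionRing.injective (MvPolynomial ι Ω) Kr).comp hmp
    refine (IsFractionRing.lift_algebraMap (A := MvPolynomial ι k) (K := K)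
      (g := ((IsScalarTower.toAlgHom k (MvPolynomial ι Ω) Kr).comp mp).toRingHom) hinj (MvPolynomial.X i)).trans ?_
    show algebraMap (MvPolynomial ι Ω) Kr (MvPolynomial.map _ (MvPolynomial.X i)) = _
    rw [MvPolynomial.map_X]
  let iΩ : Ω →ₐ[k] Kr := IsScalarTower.toAlgHom k Ω Kr
  let η := prod.lift ((yon _).map (specHom iΩ) ≫ g) ((yon _).map (specHom j))
  obtain ⟨G, ⟨e⟩⟩ : ∃ G, Nonempty ((yon _).obj G ≅ X.obj ⨯ (yon _).obj (spec k K)) :=
    ⟨_, ⟨isoOfRepresentableBy h.has_representation.choose_spec.some⟩⟩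
  obtain ⟨y, hy⟩ : ∃ y, Points.ofPt e.hom y = Points.ofPt η (IsLocalRing.closedPoint Kr) := by
    obtain ⟨z, hz⟩ := (bijective_map_iso e.hom).2 (Points.ofPt η (IsLocalRing.closedPoint Kr))
    obtain ⟨y, rfl⟩ := (Points.schemeEquiv G).surjective z
    exact ⟨y, (Points.ofPt_eq_map_ofScheme _ y).trans hz⟩
  obtain ⟨O, hO, hyO, -⟩ := exists_isAffineOpen_mem_and_subset (X := G.left) (x := y) (U := ⊤) trivial
  let o : Over.mk (O.ι ≫ G.hom) ⟶ G := Over.homMk O.ι rfl
  have : IsAffine (Over.mk (O.ι ≫ G.hom)).left := hO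
  obtain ⟨A, hA, HA, w, hHA, hw, hzA⟩ := exists_stage_affine X hqc hqs ((yon _).map o ≫ e.hom)
    ((repWith_respectsIso_right e.hom).2 ((repWith_yon_map_iff _ _).2 (show IsOpenImmersion O.ι from inferInstance)))
    (Points.ofPt η (IsLocalRing.closedPoint Kr)) (by
      refine ⟨Points.ofScheme _ (⟨y, hyO⟩ : ↥O.toScheme), ?_⟩
      rw [← Points.ofPt_eq_map_ofScheme, ofPt_map_comp]
      exact hy)
  let T : Type u := Ω ⊗[k] A
  let inl : Ω →ₐ[k] T := Algebra.TensorProduct.includeLeft
  let inr : A →ₐ[k] T := Algebra.TensorProduct.includeRight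
  let σ : (yon _).obj (spec k T) ⟶ X.obj ⨯ (yon _).obj (spec k A) :=
    prod.lift ((yon _).map (specHom inl) ≫ g) ((yon _).map (specHom inr))
  let U : Set (PrimeSpectrum T) := Points.ofPt σ ⁻¹' Set.range (Points.map w)
  have hU : IsOpen U := (isOpen_range_map_of_openImmersion hw).preimage (Points.continuous_ofPt σ)
  let ν : T →ₐ[k] Kr := Algebra.TensorProduct.lift iΩ (j.comp A.val) (fun _ _ => Commute.all _ _)
  have hν : (yon _).map (specHom ν) ≫ σ = η ≫ prod.map (𝟙 X.obj) ((yon _).map (specHom A.val)) := by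
    apply Limits.prod.hom_ext
    · simp only [σ, η, Category.assoc, prod.lift_fst, prod.map_fst, Category.comp_id]
      rw [← Category.assoc, ← Functor.map_comp, ← specHom_comp, Algebra.TensorProduct.lift_comp_includeLeft]
    · simp only [σ, η, Category.assoc, prod.lift_snd, prod.map_snd, prod.lift_snd_assoc]
      rw [← Functor.map_comp, ← Functor.map_comp, ← specHom_comp, ← specHom_comp]
      congr 2
      ext a
      refine ((Algebra.TensorProduct.lift_tmul iΩ (j.comp A.val) (fun _ _ => Commute.all _ _) 1 a).trans ?_)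
      rw [map_one, one_mul]
  have hP₀ : (specHom ν).left (IsLocalRing.closedPoint Kr) ∈ U := by
    show Points.ofPt σ _ ∈ Set.range (Points.map w)
    rw [← ofPt_map_comp, hν, ← Points.map_ofPt]
    exact hzA
  obtain ⟨_, ⟨f, rfl⟩, hf, hfU⟩ :=
    PrimeSpectrum.isTopologicalBasis_basic_opens.exists_subset_of_mem_open hP₀ hU
  have hνf : ν f ≠ 0 := fun e0 => by
    apply hf
    show ν f ∈ IsLocalRing.maximalIdeal Kr
    rw [e0]
    exact zero_mem _
  obtain ⟨k', hk', hkk', a, hfin, hunit⟩ := exists_closedPoint A hA f ν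
    (fun ω => (Algebra.TensorProduct.lift_tmul _ _ _ _ _).trans (by rw [map_one, mul_one]; rfl))
    j hjX
    (fun a => (Algebra.TensorProduct.lift_tmul _ _ _ _ _).trans (by rw [map_one, one_mul]; rfl)) hνf
  let v : spec k k' ⟶ spec k A := specHom a
  let P := X.obj ⨯ (yon _).obj (spec k k')
  let π : P ⟶ X.obj := Limits.prod.fst
  have sqW := IsPullback.of_hasPullback w (prod.map (𝟙 X.obj) ((yon _).map v))
  obtain ⟨gw, hgw⟩ := (yon _).map_surjective (w ≫ Limits.prod.snd)
  obtain ⟨eW⟩ : Nonempty ((yon _).obj (pullback gw v) ≅ pullback w (prod.map (𝟙 X.obj) ((yon _).map v))) := by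
    have sq₃ := (IsPullback.of_hasPullback gw v).map (yon _)
    rw [hgw] at sq₃
    exact ⟨sq₃.isoIsPullback _ _ (sqW.paste_vert (isPullback_prod_map_right ((yon _).map v) X.obj).flip)⟩
  have haffW : IsAffine (pullback gw v).left := by
    have := hHA
    have : IsAffine (spec k k').left := inferInstance
    have : IsAffineHom v.left := isAffineHom_of_isAffine _
    have sq := ((IsPullback.of_hasPullback gw v).map (Over.forget _))
    have : IsAffineHom (pullback.fst gw v).left := MorphismProperty.of_isPullback sq.flip ‹_›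
    exact isAffine_of_isAffineHom (pullback.fst gw v).left
  have hterm := isTerminalBase (S := Spec (CommRingCat.of k))
  have sqπ : IsPullback π Limits.prod.snd (hterm.from X.obj) (hterm.from ((yon _).obj (spec k k'))) :=
    IsPullback.of_is_product' (Limits.prodIsProd _ _) hterm
  obtain ⟨m, hm⟩ := (yon _).map_surjective (hterm.from ((yon _).obj (spec k k')))
  have hm' : m.left = Spec.map (CommRingCat.ofHom (algebraMap k k')) := by
    have := Over.w m
    simpa [spec] using this
  have hlfp : LocallyOfFinitePresentation m.left := by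
    rw [hm', HasRingHomProperty.Spec_iff (P := @LocallyOfFinitePresentation)]
    exact RingHom.finitePresentation_algebraMap.2 (Algebra.FinitePresentation.of_finiteType.1 inferInstance)
  have hflat : Flat m.left := by
    rw [hm', HasRingHomProperty.Spec_iff (P := @Flat)]
    exact RingHom.flat_algebraMap_iff.2 inferInstance
  have hfinm : IsFinite m.left := by
    rw [hm', IsFinite.SpecMap_iff]
    exact RingHom.finite_algebraMap.2 inferInstance
  have hsurj : Surjective m.left := by
    rw [hm']
    exact Groth.Agent.RelCyc15.surjective_spec k k'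
  have hflf : IsFinLocFreeMor π := by
    refine repWith_of_isPullback sqπ.flip ?_
    rw [← hm]
    exact (repWith_yon_map_iff _ _).2 ⟨hfinm, hflat, hlfp⟩
  have hπs : RepWith @Surjective π := by
    refine repWith_of_isPullback sqπ.flip ?_
    rw [← hm]
    exact (repWith_yon_map_iff _ _).2 hsurj
  refine (Groth.Agent.S10411.result (X := ⟨P, isAlgSpace_prod X.property (IsAlgSpace.yon_obj _)⟩) (Y := X)
    (ObjectProperty.homMk π) hflf hπs (Points.mk p)).2 ⟨pullback gw v, eW.hom ≫ pullback.snd w _, haffW,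
      (repWith_respectsIso_left eW.hom).2 (repWith_of_isPullback sqW hw), ?_⟩
  intro z hz
  change Points.map π z = Points.mk p at hz
  induction z using Points.ind with | h q =>
  rw [Points.map_mk] at hz
  obtain ⟨M, hM, wM, c₁, c₂, hc⟩ := exists_common_of_mk_eq hz
  rw [FieldPt.toHom_map] at hc
  let : Algebra k M := (Spec.preimage wM).hom.toAlgebra
  let eM : spec k M ⟶ Over.mk wM := Over.homMk (𝟙 _) (by
    show 𝟙 _ ≫ wM = Spec.map _
    rw [Category.id_comp]
    exact (Spec.map_preimage wM).symm)
  change Over.mk wM ⟶ q.pt at c₁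
  obtain ⟨b₁, hb₁⟩ := (yon _).map_surjective ((yon _).map (eM ≫ c₁) ≫ q.toHom ≫ Limits.prod.snd)
  let c₂' : spec k M ⟶ spec k Ω := Over.homMk (eM ≫ c₂).left (by
    show (eM ≫ c₂).left ≫ Spec.map _ = Spec.map _
    have := Over.w (eM ≫ c₂)
    change _ ≫ p.str = _ at this
    rw [← Spec.map_preimage p.str] at this
    exact this)
  have homOf : ∀ {B C : Type u} [CommRing B] [CommRing C] [Algebra k B] [Algebra k C]
      (u : spec k C ⟶ spec k B), ∃ φ : B →ₐ[k] C, specHom φ = u := fun {B C} _ _ _ _ u => by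
    let r : B →+* C := (Spec.preimage (show Spec (CommRingCat.of C) ⟶ Spec (CommRingCat.of B) from u.left)).hom
    have hr : r.comp (algebraMap k B) = algebraMap k C := by
      have h : CommRingCat.ofHom (algebraMap k B) ≫ CommRingCat.ofHom r = CommRingCat.ofHom (algebraMap k C) := by
        apply Spec.map_injective
        rw [Spec.map_comp]
        show Spec.map (Spec.preimage _) ≫ _ = _
        rw [Spec.map_preimage]
        exact Over.w u
      exact congrArg CommRingCat.Hom.hom h
    exact ⟨⟨r, fun x => RingHom.congr_fun hr x⟩, Over.OverMorphism.ext (by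
      show Spec.map (Spec.preimage _) = _
      rw [Spec.map_preimage])⟩
  obtain ⟨α, hα⟩ := homOf c₂'
  obtain ⟨β, hβ⟩ := homOf b₁
  let r : Ω ⊗[k] k' →ₐ[k] M := Algebra.TensorProduct.lift α β (fun _ _ => Commute.all _ _)
  let tot := (yon _).map (eM ≫ c₁) ≫ q.toHom
  have hcg : tot ≫ π = (yon _).map c₂' ≫ g := by
    simp only [tot, g, Functor.map_comp, Category.assoc]
    have e2 : c₂' ≫ eΩ = eM ≫ c₂ := Over.OverMorphism.ext (Category.comp_id _)
    rw [← Category.assoc ((yon _).map c₂'), ← Functor.map_comp, e2, Functor.map_comp, Category.assoc, hc]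
  have hu : ν f ≠ 0 := hνf
  let a' : T →ₐ[k] Ω ⊗[k] k' := Algebra.TensorProduct.map (AlgHom.id k Ω) a
  have htot : tot ≫ prod.map (𝟙 X.obj) ((yon _).map v) = (yon _).map (specHom (r.comp a')) ≫ σ := by
    apply Limits.prod.hom_ext
    · simp only [σ, Category.assoc, prod.lift_fst, prod.map_fst, Category.comp_id]
      rw [← Category.assoc, ← Functor.map_comp, ← specHom_comp]
      refine hcg.trans ?_
      rw [← hα]
      congr 3
      ext ω
      symm
      show (Algebra.TensorProduct.lift α β fun _ _ => Commute.all _ _) ((AlgHom.id k Ω) ω ⊗ₜ[k] a 1) = α ω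
      rw [Algebra.TensorProduct.lift_tmul, map_one, map_one, mul_one]; rfl
    · simp only [σ, Category.assoc, prod.lift_snd, prod.map_snd]
      rw [← Category.assoc, show tot ≫ Limits.prod.snd = (yon _).map b₁ from by
          simp only [tot, Category.assoc]; exact hb₁.symm,
        ← Functor.map_comp, ← Functor.map_comp, ← hβ, ← specHom_comp, ← specHom_comp]
      congr 2
      ext y
      symm
      show (Algebra.TensorProduct.lift α β fun _ _ => Commute.all _ _) ((AlgHom.id k Ω) 1 ⊗ₜ[k] a y) = β (a y)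
      rw [Algebra.TensorProduct.lift_tmul, map_one, map_one, one_mul]
  have hmem : (specHom (r.comp a')).left (IsLocalRing.closedPoint M) ∈ U := by
    refine hfU ?_
    show r (a' f) ∉ IsLocalRing.maximalIdeal M
    rw [IsLocalRing.maximalIdeal_eq_bot, Ideal.mem_bot]
    exact (hunit.map r).ne_zero
  obtain ⟨y', hy'⟩ : Points.ofPt σ ((specHom (r.comp a')).left (IsLocalRing.closedPoint M)) ∈
      Set.range (Points.map w) := hmem
  have hqtot : Points.ofPt tot (IsLocalRing.closedPoint M) = Points.mk q := by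
    simp only [tot]
    rw [ofPt_map_comp]
    exact Points.ofPt_toHom q _
  obtain ⟨z', -, hz'⟩ := exists_point_lift sqW y' (Points.ofPt tot (IsLocalRing.closedPoint M)) (by
    rw [hy', Points.map_ofPt, htot, ofPt_map_comp])
  obtain ⟨z'', rfl⟩ := (bijective_map_iso eW.hom).2 z'
  obtain ⟨t, rfl⟩ := (Points.schemeEquiv _).surjective z''
  refine ⟨t, ?_⟩
  rw [Points.ofPt_eq_map_ofScheme, Points.map_comp]
  exact hz'.trans hqtot

/-- Representability descends along purely transcendental extensions. -/
theorem rep_of_purelyTranscendental (X : AlgSp.Space (Spec (CommRingCat.of k)))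
    (hqs : IsQuasiSeparatedSp X.obj) (ι : Type u)
    (h : (X.obj ⨯ (yon _).obj (spec k (FractionRing (MvPolynomial ι k)))).obj.IsRepresentable) :
    X.obj.obj.IsRepresentable := by
  have cov : ∀ z : Points X.obj, ∃ (H : Over (Spec (CommRingCat.of k))) (w : (yon _).obj H ⟶ X.obj),
      RepWith @IsOpenImmersion w ∧ z ∈ Set.range (Points.map w) := by
    intro z
    obtain ⟨V, hV, hVc, hz, -⟩ := exists_compact_nhd X.property z isOpen_univ (Set.mem_univ _)
    have hι := repWith_openSubι hV
    let XV : AlgSp.Space (Spec (CommRingCat.of k)) :=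
      ⟨openSub V, isAlgSpace_of_representable hι.1 X.property⟩
    have hqcV : IsQuasiCompactSp XV.obj := by
      refine (isQuasiCompactSp_iff XV.property).2 ⟨?_⟩
      rw [(isEmbedding_map_of_immersion X.property (i := openSubι V)
        ⟨hι.1, fun {T T'} g p q sq => show IsImmersion q.left from
          have : IsOpenImmersion q.left := hι.2 g p q sq
          inferInstance⟩).1.isCompact_iff, Set.image_univ, range_openSubι]
      exact hVc
    have hqsV : IsQuasiSeparatedSp XV.obj :=
      isQuasiSeparatedSp_of_mor (GrpScheme14.isQuasiSeparatedMor_of_mono (openSubι V)) hqs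
    have hK : (XV.obj ⨯ (yon _).obj (spec k (FractionRing (MvPolynomial ι k)))).obj.IsRepresentable := by
      obtain ⟨H, ⟨e⟩⟩ := rep_of_isOpenImmersion
        (repWith_of_isPullback (isPullback_prod_map_left (openSubι V) _) hι) h
      exact isRepresentable_of_iso_yon e
    obtain ⟨z', rfl⟩ : z ∈ Set.range (Points.map (openSubι V)) := by rw [range_openSubι]; exact hz
    obtain ⟨Y', j, hj, hrep, hzj⟩ := exists_nhd XV hqcV hqsV ι hK z'
    obtain ⟨H, ⟨e⟩⟩ := AlgSpDecent.exists_yon_iso_of_isRepresentable hrep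
    refine ⟨H, e.hom ≫ j.hom ≫ openSubι V, (repWith_respectsIso_left e.hom).2 (repWith_comp hj hι), ?_⟩
    obtain ⟨y, rfl⟩ := hzj
    obtain ⟨y', rfl⟩ := (bijective_map_iso e.hom).2 y
    exact ⟨y', by rw [Points.map_comp, Points.map_comp]⟩
  choose H w hw hmem using cov
  obtain ⟨A, q, hqe, hqsurj⟩ := X.property.atlas
  obtain ⟨Gs, ⟨e⟩⟩ := exists_iso_yon_of_points_cover (κ := ↥A.left) (U := fun a => H (Points.ofPt q a))
    (w := fun a => w _) (fun a => hw _) fun x => by
      obtain ⟨a, rfl⟩ := surjective_ofPt hqsurj x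
      exact ⟨a, hmem _⟩
  exact isRepresentable_of_iso_yon e

end

end Groth.Agent.PurTrans14
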